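/-! Members of the stabiliser of the coded points generating a group of order 168, and an element of order five. -/

set_option autoImplicit false

namespace CfsgLib.ResThree.Five

/-- Code. -/
def A1 : List Nat := [0, 0, 1, 0, 4, 0, 1, 0, 0]

/-- Code. -/
def B1 : List Nat := [0, 11, 14, 16, 3, 9, 11, 6, 2]

/-- Code. -/
def W1 : List Nat := [1, 14, 16, 0, 20, 12, 1, 13, 16]

/-- Code. -/
def T5 : List Nat := [0, 5, 5, 16, 24, 6, 19, 21, 9]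

/-- Images. -/
noncomputable def imgA1 : List Nat := [8, 1, 30, 15, 62, 55, 82, 75, 0, 9, 10, 13, 14, 11, 12, 3, 31, 24, 27, 19, 38, 91, 26, 33, 17, 25, 22, 18, 32, 29, 2, 16, 28, 23, 34, 92, 37, 36, 20, 76, 95, 48, 68, 46, 97, 100, 43, 57, 41, 102, 87, 71, 52, 83, 61, 5, 89, 47, 79, 65, 96, 54, 4, 101, 69, 59, 85, 74, 42, 64, 80, 51, 72, 77, 67, 7, 39, 73, 86, 58, 70, 104, 6, 53, 93, 66, 78, 50, 90, 56, 88, 21, 35, 84, 103, 40, 60, 44, 99, 98, 45, 63, 49, 94, 81]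

/-- Factors. -/
noncomputable def scA1 : List Nat := [1, 4, 1, 4, 12, 13, 17, 18, 1, 1, 4, 12, 13, 17, 18, 4, 1, 2, 3, 4, 10, 15, 1, 2, 3, 4, 1, 2, 3, 4, 1, 1, 2, 3, 4, 10, 15, 5, 20, 9, 13, 17, 21, 13, 17, 12, 18, 6, 12, 18, 24, 1, 4, 14, 16, 18, 8, 9, 13, 17, 21, 22, 17, 6, 7, 12, 18, 23, 24, 11, 19, 1, 4, 11, 19, 13, 6, 7, 12, 18, 23, 24, 12, 8, 9, 13, 17, 21, 22, 14, 16, 5, 20, 6, 12, 18, 24, 12, 18, 13, 17, 9, 13, 17, 21]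

/-- Images. -/
noncomputable def imgB1 : List Nat := [69, 74, 101, 59, 8, 85, 42, 4, 7, 67, 52, 97, 96, 24, 20, 36, 41, 61, 22, 38, 98, 11, 56, 12, 93, 17, 48, 28, 82, 44, 46, 89, 81, 100, 60, 15, 35, 16, 40, 5, 19, 37, 86, 26, 49, 30, 45, 50, 43, 29, 55, 9, 64, 66, 103, 47, 18, 31, 2, 104, 90, 25, 77, 88, 10, 54, 102, 51, 95, 70, 0, 72, 75, 1, 73, 71, 33, 80, 84, 91, 62, 99, 27, 68, 92, 39, 6, 79, 94, 57, 34, 87, 78, 13, 63, 83, 23, 21, 14, 32, 76, 58, 53, 65, 3]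

/-- Factors. -/
noncomputable def scB1 : List Nat := [14, 11, 20, 2, 22, 6, 16, 1, 16, 14, 16, 11, 20, 5, 19, 11, 20, 9, 18, 2, 4, 23, 6, 15, 4, 13, 17, 1, 10, 24, 19, 3, 12, 21, 5, 7, 1, 3, 10, 22, 10, 20, 5, 21, 6, 23, 1, 1, 9, 12, 15, 22, 4, 3, 15, 5, 6, 15, 3, 10, 20, 9, 16, 24, 8, 2, 5, 4, 13, 4, 22, 1, 8, 7, 1, 14, 17, 1, 20, 3, 22, 6, 20, 21, 5, 15, 9, 10, 24, 10, 2, 15, 2, 10, 18, 21, 4, 4, 7, 24, 9, 20, 5, 15, 10]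

/-- Images. -/
noncomputable def imgT5 : List Nat := [73, 70, 8, 7, 104, 86, 39, 58, 4, 50, 28, 72, 45, 35, 80, 23, 101, 66, 38, 5, 81, 48, 34, 59, 6, 91, 89, 2, 85, 78, 93, 3, 54, 16, 42, 33, 29, 69, 1, 96, 99, 25, 82, 36, 14, 77, 9, 24, 100, 94, 55, 22, 95, 65, 60, 64, 71, 61, 90, 40, 49, 10, 21, 88, 46, 92, 103, 11, 26, 19, 84, 17, 63, 41, 79, 98, 68, 30, 87, 53, 20, 44, 51, 75, 18, 57, 37, 43, 67, 102, 31, 0, 74, 12, 32, 83, 47, 62, 52, 15, 97, 13, 76, 56, 27]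

/-- Factors. -/
noncomputable def scT5 : List Nat := [5, 5, 10, 18, 19, 24, 16, 21, 16, 5, 20, 14, 19, 11, 16, 5, 10, 15, 20, 9, 9, 6, 15, 20, 22, 5, 20, 10, 5, 10, 20, 3, 5, 10, 15, 24, 21, 4, 7, 4, 21, 18, 10, 1, 23, 1, 8, 4, 6, 13, 15, 9, 24, 3, 10, 14, 1, 6, 3, 20, 17, 22, 19, 21, 1, 3, 5, 7, 12, 3, 15, 6, 21, 10, 2, 11, 18, 23, 20, 2, 4, 9, 16, 8, 13, 5, 2, 24, 4, 15, 2, 8, 1, 10, 17, 24, 1, 22, 4, 7, 4, 15, 12, 9, 1]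

end CfsgLib.ResThree.Five
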