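import Cfsg.Agent.Lib.MaxSub.ResThree.Five.Data
import Cfsg.Agent.Lib.MaxSub.ResThree.Sub.Seven
import Cfsg.Agent.Lib.MaxSub.ResThree.Sub.Lift
import Cfsg.Agent.Lib.MaxSub.SUThree.Exceptions

/-!
In `SU₃(5)` a group of order 168 lies in a conjugate of the triple cover of the alternating group of degree seven.
-/

set_option autoImplicit false
set_option linter.unusedSectionVars false
set_option linter.style.haveILetI false
set_option maxRecDepth 100000
set_option maxHeartbeats 1000000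

namespace CfsgLib.ResThree

open Matrix CfsgLib.MaxSub.SUThree

theorem five_members :
    (keeps 5 2 MaxSub.SUThree.Five.S7 Five.A1 Five.imgA1 Five.scA1 = true ∧ isSU 5 2 Five.A1 = true) ∧
    (keeps 5 2 MaxSub.SUThree.Five.S7 Five.B1 Five.imgB1 Five.scB1 = true ∧ isSU 5 2 Five.B1 = true) ∧
    (keeps 5 2 MaxSub.SUThree.Five.S7 Five.T5 Five.imgT5 Five.scT5 = true ∧ isSU 5 2 Five.T5 = true) := by
  decide +kernel

theorem five_relations :
    mM 5 2 Five.A1 Five.W1 = mM 5 2 Five.W1 [1, 22, 7, 0, 4, 0, 0, 0, 4] ∧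
    mM 5 2 Five.B1 Five.W1 = mM 5 2 Five.W1 [0, 0, 1, 1, 0, 0, 0, 1, 0] ∧
    dt 5 2 Five.W1 ≠ 0 ∧ dt 5 2 Five.W1 < 5 * 5 ∧ pM 5 2 Five.T5 5 = I9 ∧ ent Five.T5 0 0 = 0 ∧
    ca 5 22 7 = 4 ∧ cm 5 2 22 7 = 2 := by
  decide +kernel

variable {F : Type*} [Field F] [Fintype F]

local notation "GL3" => Matrix.GeneralLinearGroup (Fin 3) F
local notation "M3" => Matrix (Fin 3) (Fin 3) F
local notation "Zs" => Cfsg.Geo.scalars (Fin 3) F

theorem norm_surj {p : ℕ} [Fact p.Prime] (hF : Fintype.card F = p ^ 2) {m : F} (hm0 : m ≠ 0) (hm : m ^ p = m) :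
    ∃ ν : F, ν ≠ 0 ∧ ν ^ (p + 1) = m := by
  classical
  have hp := (Fact.out : p.Prime).two_le
  obtain ⟨g, hg⟩ := IsCyclic.exists_generator (α := Fˣ)
  obtain ⟨k, hk⟩ := mem_powers_iff_mem_zpowers.2 (hg (Units.mk0 m hm0))
  have hog : orderOf g = (p + 1) * (p - 1) := by
    rw [orderOf_eq_card_of_forall_mem_zpowers hg, Nat.card_eq_fintype_card, Fintype.card_units, hF]
    obtain ⟨r, rfl⟩ : ∃ r, p = r + 1 := ⟨p - 1, by omega⟩
    simp only [Nat.add_sub_cancel]
    rw [show (r + 1) ^ 2 = (r + 1 + 1) * r + 1 by ring, Nat.add_sub_cancel]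
  have hmu : (Units.mk0 m hm0) ^ (p - 1) = 1 := Units.ext (by
    rw [Units.val_pow_eq_pow_val, Units.val_mk0, Units.val_one]
    apply mul_right_cancel₀ hm0
    rw [← pow_succ, Nat.sub_add_cancel (by omega), hm, one_mul])
  have hk' : g ^ k = Units.mk0 m hm0 := hk
  rw [← hk', ← pow_mul, ← orderOf_dvd_iff_pow_eq_one, hog] at hmu
  obtain ⟨j, hj⟩ := Nat.dvd_of_mul_dvd_mul_right (by omega) hmu
  exact ⟨(g ^ j : Fˣ), Units.ne_zero _, by
    rw [← Units.val_pow_eq_pow_val, ← pow_mul, mul_comm, ← hj, hk', Units.val_mk0]⟩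

theorem gu_matrix {p ns : ℕ} (C : Coord F p ns) {g : GL3} (hg : g ∈ Cfsg.GU 3 F p) :
    g.1ᵀ * g.1.map (· ^ p) = 1 := by
  ext i j
  rw [Matrix.mul_apply, Matrix.one_apply]
  exact hh_col C hg i j

theorem mem_gu_of_matrix {p : ℕ} [Fact p.Prime] [CharP F p] {g : GL3} (h : g.1ᵀ * g.1.map (· ^ p) = 1) :
    g ∈ Cfsg.GU 3 F p := by
  intro u v
  have key : ∀ a b : Fin 3 → F, Cfsg.hermForm 3 F p a b = a ⬝ᵥ (fun i => b i ^ p) := fun a b => rfl
  rw [key, key]
  have hv : (fun i => (g.1 *ᵥ v) i ^ p) = g.1.map (· ^ p) *ᵥ (fun i => v i ^ p) := by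
    funext i
    show ((frobenius F p) ((g.1 *ᵥ v) i)) = _
    rw [RingHom.map_mulVec]
    rfl
  show (g.1 *ᵥ u) ⬝ᵥ (fun i => (g.1 *ᵥ v) i ^ p) = _
  rw [hv, ← Matrix.vecMul_transpose, ← dotProduct_mulVec, Matrix.mulVec_mulVec, h, Matrix.one_mulVec]

/-- A group of order 168 modulo scalars is not maximal in `SU₃(5)`. -/
theorem not_maximal_five (hF : Fintype.card F = 5 ^ 2) {H P : Subgroup (Matrix.GeneralLinearGroup (Fin 3) F)}
    (hH : Cfsg.Geo.IsMaximalIn (Cfsg.GU 3 F 5 ⊓ Cfsg.Geo.specialLinear (Fin 3) F) H)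
    (hres : Cfsg.Geo.IsResidualCore H P)
    (h7 : Nonempty (P ⧸ (Cfsg.Geo.scalars (Fin 3) F).subgroupOf P ≃* Matrix.ProjectiveSpecialLinearGroup (Fin 3) (ZMod 2))) :
    False := by
  classical
  obtain ⟨e⟩ := h7
  obtain ⟨C⟩ := coord_five hF
  haveI : Fact (Nat.Prime 5) := ⟨by norm_num⟩
  haveI : CharP F 5 := C.charP
  have h2 : (2 : F) ≠ 0 := fun h => by
    have := (CharP.cast_eq_zero_iff F 5 2).1 (by exact_mod_cast h)
    omega
  have hP := Core.of_residual hres
  have hHG : H ≤ MaxSub.SUThree.G3 5 F := hH.1.le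
  obtain ⟨hZ, hcardP, a, b, hab⟩ := exists_sevenPair hP e
  obtain ⟨tb, tb'⟩ := hab.tr_b 5 hP
  obtain ⟨hinv, hsum, hquad, -⟩ := hab.tr_ab 5 hP (by norm_num)
  obtain ⟨⟨kA, sA⟩, ⟨kB, sB⟩, ⟨kT, sT⟩⟩ := five_members
  obtain ⟨rA, rB, rdet, rdl, rT, rT0, rsum, rprod⟩ := five_relations
  obtain ⟨A₁, eA, hAG⟩ := exists_su C sA
  obtain ⟨B₁, eB, hBG⟩ := exists_su C sB
  obtain ⟨t, eT, htG⟩ := exists_su C sT
  have hsum' : dec C 22 + dec C 7 = -1 := by
    rw [← dec_ca, rsum, dec_of_lt C (by norm_num)]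
    have h5 : ((5 : ℕ) : F) = 0 := CharP.cast_eq_zero F 5
    push_cast at h5 ⊢
    linear_combination h5
  have hprod' : dec C 22 * dec C 7 = 2 := by
    rw [← dec_cm, rprod, dec_of_lt C (by norm_num)]; norm_num
  -- choose the pair with the trace of the model
  obtain ⟨b', hgen', hb', tb1, tb2, t1, t2⟩ : ∃ b' : P, Subgroup.closure ({a, b'} : Set P) = ⊤ ∧ b' ^ 3 = 1 ∧
      tr (b' : GL3) = 0 ∧ tr (b' : GL3)⁻¹ = 0 ∧
      tr ((a : GL3) * (b' : GL3)) = dec C 22 ∧ tr ((a : GL3) * (b' : GL3)⁻¹) = dec C 7 := by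
    set c := tr ((a : GL3) * (b : GL3))
    have hroot : (c - dec C 22) * (c - dec C 7) = 0 := by linear_combination hquad - c * hsum' + hprod'
    rcases mul_eq_zero.1 hroot with h | h
    · have hc := sub_eq_zero.1 h
      exact ⟨b, hab.gen, hab.hb, tb, tb', hc, by rw [hinv]; linear_combination hsum - hc - hsum'⟩
    · have hc := sub_eq_zero.1 h
      refine ⟨b⁻¹, ?_, by rw [inv_pow, hab.hb, inv_one], by rw [InvMemClass.coe_inv]; exact tb',
        by rw [InvMemClass.coe_inv, inv_inv]; exact tb, ?_, by rw [InvMemClass.coe_inv, inv_inv]; exact hc⟩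
      · have hle : Subgroup.closure ({a, b} : Set P) ≤ Subgroup.closure ({a, b⁻¹} : Set P) := by
          refine (Subgroup.closure_le _).2 (Set.insert_subset_iff.2 ⟨Subgroup.subset_closure (by simp), ?_⟩)
          rw [Set.singleton_subset_iff]
          simpa using Subgroup.inv_mem (Subgroup.closure ({a, b⁻¹} : Set P)) (Subgroup.subset_closure (show b⁻¹ ∈ ({a, b⁻¹} : Set P) by simp))
        rw [hab.gen] at hle
        exact top_le_iff.1 hle
      · rw [InvMemClass.coe_inv, hinv]; linear_combination hsum - hc - hsum'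
  -- the normal forms
  have haa : (a : GL3) * a = 1 := congrArg Subtype.val hab.ha
  obtain ⟨B, hBa, hBb⟩ := normal_form h2 haa (fun h => hab.a1 (Subtype.ext h)) (hP.det_eq a.2)
    (coe_pow_eq_one hb') tb1 tb2 (by
      intro W hWa hWb
      refine CfsgLib.Aschbacher.irr_iff.1 hP.absIrred.1 W fun x hx => ?_
      suffices h : ∀ y : P, ∀ v ∈ W, (y : GL3).1 *ᵥ v ∈ W from h ⟨x, hx⟩
      intro y
      have hy : y ∈ Subgroup.closure ({a, b'} : Set P) := hgen' ▸ Subgroup.mem_top y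
      induction hy using Subgroup.closure_induction with
      | mem z hz =>
        rcases hz with rfl | hz
        · exact hWa
        · rw [Set.mem_singleton_iff.1 hz]; exact hWb
      | one => intro v hv; simpa using hv
      | mul u w _ _ hu hw =>
        intro v hv
        rw [Subgroup.coe_mul, Units.val_mul, ← Matrix.mulVec_mulVec]
        exact hu _ (hw v hv)
      | inv u _ hu =>
        intro v hv
        let S : Subgroup GL3 :=
          { carrier := {g | W.map (Matrix.toLin' g.1) = W}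
            one_mem' := by simp
            mul_mem' := fun {g k} hg hk => by
              show W.map (Matrix.toLin' (g * k).1) = W
              rw [Units.val_mul, Matrix.toLin'_mul, Submodule.map_comp, hk, hg]
            inv_mem' := fun {g} hg => by
              show W.map (Matrix.toLin' (g⁻¹).1) = W
              conv_lhs => rw [← hg, ← Submodule.map_comp, ← Matrix.toLin'_mul, Units.inv_mul, Matrix.toLin'_one,
                Submodule.map_id] }
        have huS : (u : GL3) ∈ S := by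
          refine Submodule.eq_of_le_of_finrank_le (fun z ⟨w, hw, hz⟩ => hz ▸ hu w hw) ?_
          exact ((Submodule.equivMapOfInjective _ (fun p q hpq => by
            have := congrArg ((u : GL3)⁻¹.1 *ᵥ ·) (show (u : GL3).1 *ᵥ p = (u : GL3).1 *ᵥ q from hpq)
            simpa [Matrix.mulVec_mulVec] using this) W).finrank_eq).le
        have := S.inv_mem huS
        rw [← InvMemClass.coe_inv] at this
        exact this ▸ Submodule.mem_map_of_mem hv)
  rw [t1, t2] at hBa
  -- the model has the same normal form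
  have hW : (decM C Five.W1).det ≠ 0 := by
    rw [det_decM C]
    exact fun h => rdet (dec_inj C rdl (by norm_num) (h.trans (dec_zero C).symm))
  set W₁ : GL3 := Matrix.GeneralLinearGroup.mkOfDetNeZero _ hW
  have hdec4 : dec C 4 = -1 := by
    rw [dec_of_lt C (by norm_num)]
    have h5 : ((5 : ℕ) : F) = 0 := CharP.cast_eq_zero F 5
    push_cast at h5 ⊢
    linear_combination h5
  have hnA : decM C [1, 22, 7, 0, 4, 0, 0, 0, 4] = nfA (dec C 22) (dec C 7) := by
    ext i j; fin_cases i <;> fin_cases j <;> simp [decM, ent, nfA, dec_one, dec_zero, hdec4]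
  have hnB : decM C [0, 0, 1, 1, 0, 0, 0, 1, 0] = (nfB : M3) := by
    ext i j; fin_cases i <;> fin_cases j <;> simp [decM, ent, nfB, dec_one, dec_zero]
  have hWa : A₁.1 * W₁.1 = W₁.1 * nfA (dec C 22) (dec C 7) := by
    show A₁.1 * decM C Five.W1 = decM C Five.W1 * _
    rw [eA, ← hnA, ← decM_mul, ← decM_mul, rA]
  have hWb : B₁.1 * W₁.1 = W₁.1 * nfB := by
    show B₁.1 * decM C Five.W1 = decM C Five.W1 * _
    rw [eB, ← hnB, ← decM_mul, ← decM_mul, rB]
  set M : GL3 := B * W₁⁻¹ with hM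
  have hconj : ∀ {x y : GL3} {N : M3}, x.1 * B.1 = B.1 * N → y.1 * W₁.1 = W₁.1 * N → M⁻¹ * x * M = y := by
    intro x y N hx hy
    have h1 : x * M = M * y := Units.ext (by
      simp only [hM, Units.val_mul]
      calc x.1 * (B.1 * (W₁⁻¹ : GL3).1) = x.1 * B.1 * (W₁⁻¹ : GL3).1 := by rw [mul_assoc]
        _ = B.1 * ((W₁⁻¹ : GL3).1 * (W₁.1 * N)) * (W₁⁻¹ : GL3).1 := by
          rw [hx, ← mul_assoc (W₁⁻¹ : GL3).1, Units.inv_mul, one_mul]
        _ = B.1 * (W₁⁻¹ : GL3).1 * y.1 * (W₁.1 * (W₁⁻¹ : GL3).1) := by rw [← hy]; simp only [mul_assoc]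
        _ = B.1 * (W₁⁻¹ : GL3).1 * y.1 := by rw [Units.mul_inv, mul_one])
    rw [mul_assoc, h1, ← mul_assoc, inv_mul_cancel, one_mul]
  have hca : M⁻¹ * (a : GL3) * M = A₁ := hconj hBa hWa
  have hcb : M⁻¹ * (b' : GL3) * M = B₁ := hconj hBb hWb
  have hAS : A₁ ∈ stab C MaxSub.SUThree.Five.S7 := mem_stab C kA eA
  have hBS : B₁ ∈ stab C MaxSub.SUThree.Five.S7 := mem_stab C kB eB
  have htS : t ∈ stab C MaxSub.SUThree.Five.S7 := mem_stab C kT eT
  let K : Subgroup GL3 := (MaxSub.SUThree.G3 5 F ⊓ stab C MaxSub.SUThree.Five.S7).comap (MulAut.conj M⁻¹).toMonoidHom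
  have hPK : ∀ x ∈ P, M⁻¹ * x * M ∈ MaxSub.SUThree.G3 5 F ⊓ stab C MaxSub.SUThree.Five.S7 := by
    suffices h : ∀ y : P, (y : GL3) ∈ K by
      intro x hx; simpa [K] using h ⟨x, hx⟩
    intro y
    have hy : y ∈ Subgroup.closure ({a, b'} : Set P) := hgen' ▸ Subgroup.mem_top y
    induction hy using Subgroup.closure_induction with
    | mem z hz =>
      rcases hz with rfl | hz
      · show _ ∈ _; simp only [K, Subgroup.mem_comap, MulEquiv.coe_toMonoidHom, MulAut.conj_apply, inv_inv]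
        rw [hca]; exact ⟨hAG, hAS⟩
      · rw [Set.mem_singleton_iff.1 hz]
        simp only [K, Subgroup.mem_comap, MulEquiv.coe_toMonoidHom, MulAut.conj_apply, inv_inv]
        rw [hcb]; exact ⟨hBG, hBS⟩
    | one => rw [OneMemClass.coe_one]; exact one_mem _
    | mul u w _ _ hu hw => rw [Subgroup.coe_mul]; exact mul_mem hu hw
    | inv u _ hu => rw [InvMemClass.coe_inv]; exact inv_mem hu
  -- the conjugating matrix is unitary up to a scalar
  let fr : F →+* F := frobenius F 5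
  have hfrp : ∀ x : F, fr x = x ^ 5 := fun x => frobenius_def 5 x
  have hff : ∀ x : F, fr (fr x) = x := fun x => by
    rw [hfrp, hfrp, ← pow_mul, show 5 * 5 = Fintype.card F by rw [hF]; norm_num, FiniteField.pow_card]
  have hmapp : ∀ X : M3, X.map (· ^ 5) = X.map fr := fun X => by ext i j; simp [hfrp]
  set h : M3 := M.1ᵀ * M.1.map fr with hh
  have hcomm : ∀ x ∈ P, x.1 * (M.1 * h.map fr * (M⁻¹ : GL3).1) = (M.1 * h.map fr * (M⁻¹ : GL3).1) * x.1 := by
    intro x hx
    set y := M⁻¹ * x * M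
    have hy : y.1ᵀ * y.1.map fr = 1 := by rw [← hmapp]; exact gu_matrix C (hPK x hx).1.1
    have hxu : x.1ᵀ * x.1.map fr = 1 := by rw [← hmapp]; exact gu_matrix C (hHG (hres.le hx)).1
    have hxy : x.1 * M.1 = M.1 * y.1 := by simp [y, mul_assoc]
    have hpres : y.1ᵀ * h * y.1.map fr = h := by
      calc y.1ᵀ * h * y.1.map fr = (M.1 * y.1)ᵀ * (M.1 * y.1).map fr := by
            rw [hh, Matrix.transpose_mul, Matrix.map_mul (f := fr)]; simp only [mul_assoc]
        _ = (x.1 * M.1)ᵀ * (x.1 * M.1).map fr := by rw [hxy]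
        _ = M.1ᵀ * (x.1ᵀ * x.1.map fr) * M.1.map fr := by
            rw [Matrix.transpose_mul, Matrix.map_mul (f := fr)]; simp only [mul_assoc]
        _ = h := by rw [hxu, mul_one, hh]
    have hy' : y.1.map fr * y.1ᵀ = 1 := mul_eq_one_comm.1 hy
    have hch : h * y.1.map fr = y.1.map fr * h := by
      calc h * y.1.map fr = (y.1.map fr * y.1ᵀ) * (h * y.1.map fr) := by rw [hy', one_mul]
        _ = y.1.map fr * (y.1ᵀ * h * y.1.map fr) := by simp only [mul_assoc]
        _ = y.1.map fr * h := by rw [hpres]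
    have hch2 : h.map fr * y.1 = y.1 * h.map fr := by
      have := congrArg (fun X => X.map fr) hch
      simpa [Matrix.map_mul (f := fr), Matrix.map_map, Function.comp_def, hff] using this
    have hxm : x.1 = M.1 * y.1 * (M⁻¹ : GL3).1 := by simp [y, mul_assoc]
    calc x.1 * (M.1 * h.map fr * (M⁻¹ : GL3).1) = M.1 * (y.1 * h.map fr) * (M⁻¹ : GL3).1 := by
          rw [hxm]; simp [mul_assoc]
      _ = M.1 * (h.map fr * y.1) * (M⁻¹ : GL3).1 := by rw [hch2]
      _ = (M.1 * h.map fr * (M⁻¹ : GL3).1) * x.1 := by rw [hxm]; simp [mul_assoc]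
  obtain ⟨lam, hlam⟩ := scalar_of_commute hP.envelope_top hcomm
  have hh' : h.map fr = lam • (1 : M3) := by
    have := congrArg (fun X => (M⁻¹ : GL3).1 * X * M.1) hlam
    simpa [mul_assoc] using this
  have hhm : h = fr lam • (1 : M3) := by
    have := congrArg (fun X => X.map fr) hh'
    ext i j
    have hij := congrFun (congrFun this i) j
    simp only [Matrix.map_apply, hff] at hij
    rw [hij]
    by_cases e : i = j <;> simp [e]
  set m := fr lam with hmdef
  have hm0 : m ≠ 0 := by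
    intro e
    have hd := congrArg Matrix.det hhm
    rw [e, zero_smul, Matrix.det_zero, hh, Matrix.det_mul, Matrix.det_transpose, ← RingHom.mapMatrix_apply,
      ← RingHom.map_det] at hd
    rcases mul_eq_zero.1 hd with h' | h'
    · exact M.det_ne_zero h'
    · exact M.det_ne_zero ((map_eq_zero fr).1 h')
  have hmfix : m ^ 5 = m := by
    have h00 := congrFun (congrFun hhm 0) 0
    simp [hh, Matrix.mul_apply, Fin.sum_univ_three] at h00
    rw [← hfrp, ← h00]
    simp only [map_add, map_mul, hff]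
    ring
  obtain ⟨ν, hν0, hν⟩ := norm_surj (p := 5) hF hm0 hmfix
  set U : GL3 := Matrix.GeneralLinearGroup.mkOfDetNeZero (ν⁻¹ • M.1)
    (by rw [Matrix.det_smul]; exact mul_ne_zero (pow_ne_zero _ (inv_ne_zero hν0)) M.det_ne_zero) with hU
  have hUG : U ∈ Cfsg.GU 3 F 5 := by
    refine mem_gu_of_matrix ?_
    rw [hmapp]
    show (ν⁻¹ • M.1)ᵀ * (ν⁻¹ • M.1).map fr = 1
    have e : (ν⁻¹ • M.1).map fr = fr ν⁻¹ • M.1.map fr := by ext i j; simp [map_mul]
    rw [Matrix.transpose_smul, e, Matrix.smul_mul, Matrix.mul_smul, smul_smul, ← hh, hhm, smul_smul, hfrp,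
      show ν⁻¹ * ν⁻¹ ^ 5 * m = 1 by
        rw [← hν]; field_simp,
      one_smul]
  have hUconj : ∀ g : GL3, U⁻¹ * g * U = M⁻¹ * g * M := by
    intro g
    have hs : ∀ z : GL3, M⁻¹ * U * z = z * (M⁻¹ * U) := fun z => by
      have hsc : M⁻¹ * U ∈ Zs := (Cfsg.Geo.mem_scalars_iff _).2 ⟨Units.mk0 ν⁻¹ (inv_ne_zero hν0), by
        show (M⁻¹ : GL3).1 * (ν⁻¹ • M.1) = ν⁻¹ • (1 : M3)
        rw [Matrix.mul_smul, Units.inv_mul]⟩
      exact scalar_comm_all hsc z
    calc U⁻¹ * g * U = (M⁻¹ * U)⁻¹ * ((M⁻¹ * g * M) * (M⁻¹ * U)) := by group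
      _ = M⁻¹ * g * M := by rw [← hs, inv_mul_cancel_left]
  have hHsplit : ∀ g ∈ H, ∃ x ∈ P, ∃ z ∈ Zs, x * z = g := fun g hg =>
    Subgroup.mem_sup_of_normal_right.1 (no_outer_seven 5 hP (by norm_num) hab (hres.normal g hg))
  obtain ⟨w, hwG, hwS⟩ := exists_not_mem C out_seven.1 out_seven.2
  refine not_maximal (between hUG hHG (M := stab C MaxSub.SUThree.Five.S7) (fun g hg => ?_) htG htS ?_ hwG hwS) hH
  · rw [hUconj]
    obtain ⟨x, hx, z, hz, rfl⟩ := hHsplit g hg
    rw [show M⁻¹ * (x * z) * M = M⁻¹ * x * M * (M⁻¹ * z * M) by group]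
    refine mul_mem (hPK x hx).2 ?_
    have hzM : M⁻¹ * z * M = z := by
      rw [mul_assoc, scalar_comm_all hz M, ← mul_assoc, inv_mul_cancel, one_mul]
    rw [hzM]
    obtain ⟨k, hk⟩ := (Cfsg.Geo.mem_scalars_iff _).1 hz
    intro i hi
    exact ⟨i, hi, k, by rw [hk, Matrix.smul_mulVec, Matrix.one_mulVec]⟩
  · intro hmem
    have ht5 : t ^ 5 = 1 := Units.ext (by rw [Units.val_pow_eq_pow_val, eT, ← decM_pow, rT, decM_one, Units.val_one])
    obtain ⟨x, hx, z, hz, hxz⟩ := hHsplit _ hmem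
    have hzc := scalar_comm_all hz
    have h5 : x ^ 5 * z ^ 5 = 1 := by
      rw [← (show Commute x z from (hzc x).symm).mul_pow, hxz, conj_pow, ht5]; group
    have hx5 : (⟨x, hx⟩ : P) ^ 5 = 1 := by
      refine (Subgroup.eq_bot_iff_forall _).1 hZ _ ?_
      show x ^ 5 ∈ Zs
      rw [eq_inv_of_mul_eq_one_left h5]
      exact inv_mem (pow_mem hz 5)
    have hx1 : (⟨x, hx⟩ : P) = 1 :=
      eq_one_of_coprime_pows hx5 (pow_card_eq_one' (G := P)) (by rw [hcardP]; norm_num)
    have hx1' : x = 1 := congrArg Subtype.val hx1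
    rw [hx1', one_mul] at hxz
    have htz : t = z := by
      calc t = U⁻¹ * (U * t * U⁻¹) * U := by group
        _ = U⁻¹ * z * U := by rw [hxz]
        _ = z := by rw [mul_assoc, hzc U, ← mul_assoc, inv_mul_cancel, one_mul]
    obtain ⟨k, hk⟩ := (Cfsg.Geo.mem_scalars_iff _).1 hz
    have h00 := congrFun (congrFun (show t.1 = (k : F) • (1 : M3) by rw [htz]; exact hk) 0) 0
    rw [eT] at h00
    simp [decM, rT0, dec_zero] at h00
    exact k.ne_zero h00.symm

end CfsgLib.ResThree
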